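import Mathlib.Algebra.Homology.HomotopyCategory.MappingCocone
import Mathlib.Algebra.Homology.HomologySequenceLemmas
import Mathlib.Algebra.Homology.Augment
import Mathlib.Algebra.Homology.HomologicalComplexAbelian
import Mathlib.Algebra.Homology.DerivedCategory.HomologySequence
import Mathlib.CategoryTheory.Abelian.Refinements

/-!
# Resolutions by complexes with terms in a class of objects of finite codimension
-/

set_option autoImplicit false
set_option backward.isDefEq.respectTransparency false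
set_option backward.isDefEq.respectTransparency.types false

universe v u

open CategoryTheory Limits HomologicalComplex

namespace Groth.Agent.PClassRes

variable {A : Type u} [Category.{v} A] [Abelian A] (P : ObjectProperty A)

/-- Every chain of `m` embeddings into objects of `P` ends in `P`. -/
def D : ℕ → A → Prop
  | 0, X => P X
  | m + 1, X => ∀ S : ShortComplex A, S.ShortExact → S.X₁ = X → P S.X₂ → D m S.X₃

/-- `Q` is the last syzygy of a `P`-coresolution of length `m` of `X`. -/
def Res : ℕ → A → A → Prop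
  | 0, X, Q => X = Q
  | m + 1, X, Q => ∃ S : ShortComplex A, S.ShortExact ∧ S.X₁ = X ∧ P S.X₂ ∧ Res m S.X₃ Q

variable {P}

theorem D_of_res : ∀ (m : ℕ) (X : A), (∀ Q, Res P m X Q → P Q) → D P m X
  | 0, X, h => h X rfl
  | m + 1, X, h => fun S hS hX h2 => D_of_res m S.X₃ fun Q hQ => h Q ⟨S, hS, hX, h2, hQ⟩

theorem exists_complex : ∀ (j : ℕ) (X Q : A), Res P j X Q →
    ∃ (K : CochainComplex A ℕ) (ι : X ⟶ K.X 0) (w : ι ≫ K.d 0 1 = 0),
      Mono ι ∧ (ShortComplex.mk ι (K.d 0 1) w).Exact ∧ (∀ i, 1 ≤ i → i ≤ j → K.ExactAt i) ∧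
      (∀ i, j < i → IsZero (K.X i)) ∧ (j = 0 → Epi ι) ∧ (∀ l, j = l + 1 → Epi (K.d l (l + 1))) ∧
      (∀ i, i < j → P (K.X i)) ∧ Nonempty (K.X j ≅ Q) := by
  intro j
  induction j with
  | zero =>
    rintro X Q rfl
    let K : CochainComplex A ℕ := (CochainComplex.single₀ A).obj X
    have h1 : IsZero (K.X 1) := HomologicalComplex.isZero_single_obj_X _ _ _ _ (by simp)
    refine ⟨K, 𝟙 X, h1.eq_of_tgt _ _, (inferInstance : Mono (𝟙 X)), ?_, fun i h h' => absurd h (by omega),
      fun i hi => HomologicalComplex.isZero_single_obj_X _ _ _ _ (by omega),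
      fun _ => (inferInstance : Epi (𝟙 X)), fun l hl => absurd hl (by omega), fun i hi => absurd hi (by omega),
      ⟨Iso.refl _⟩⟩
    exact (ShortComplex.exact_iff_epi _ (h1.eq_of_tgt _ _)).2 (inferInstance : Epi (𝟙 X))
  | succ j ih =>
    rintro X Q ⟨S, hS, rfl, hP, hR⟩
    obtain ⟨K, ι, w, hι, hex, hexi, hz, he0, he, hPK, ⟨e⟩⟩ := ih S.X₃ Q hR
    haveI := hS.mono_f
    haveI := hS.epi_g
    have w' : (S.g ≫ ι) ≫ K.d 0 1 = 0 := by rw [Category.assoc, w, comp_zero]
    let K' : CochainComplex A ℕ := CochainComplex.augment K (S.g ≫ ι) w'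
    refine ⟨K', S.f, show S.f ≫ S.g ≫ ι = 0 by rw [S.zero_assoc, zero_comp], hS.mono_f, ?_, ?_, ?_,
      fun h => absurd h (by omega), ?_, ?_, ⟨e⟩⟩
    · let φ : S ⟶ ShortComplex.mk S.f (S.g ≫ ι) (by rw [S.zero_assoc, zero_comp]) :=
        { τ₁ := 𝟙 _, τ₂ := 𝟙 _, τ₃ := ι, comm₁₂ := by simp, comm₂₃ := by simp }
      haveI : Epi φ.τ₁ := (inferInstance : Epi (𝟙 S.X₁))
      haveI : IsIso φ.τ₂ := (inferInstance : IsIso (𝟙 S.X₂))
      haveI : Mono φ.τ₃ := hι
      exact (ShortComplex.exact_iff_of_epi_of_isIso_of_mono φ).1 hS.exact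
    · intro i h1 h2
      rcases i with _ | _ | l
      · omega
      · rw [HomologicalComplex.exactAt_iff' _ 0 1 2 (by simp) (by simp)]
        let φ : ShortComplex.mk (S.g ≫ ι) (K.d 0 1) w' ⟶ ShortComplex.mk ι (K.d 0 1) w :=
          { τ₁ := S.g, τ₂ := 𝟙 _, τ₃ := 𝟙 _, comm₁₂ := by simp, comm₂₃ := by simp }
        haveI : Epi φ.τ₁ := hS.epi_g
        haveI : IsIso φ.τ₂ := (inferInstance : IsIso (𝟙 (K.X 0)))
        haveI : Mono φ.τ₃ := (inferInstance : Mono (𝟙 (K.X 1)))
        exact (ShortComplex.exact_iff_of_epi_of_isIso_of_mono φ).2 hex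
      · have h4 := hexi (l + 1) (by omega) (by omega)
        rw [HomologicalComplex.exactAt_iff' _ l (l + 1) (l + 2) (by simp) (by simp)] at h4
        rw [HomologicalComplex.exactAt_iff' _ (l + 1) (l + 2) (l + 3) (by simp) (by simp)]
        exact h4
    · intro i hi
      rcases i with _ | i
      · omega
      · exact hz i (by omega)
    · intro l hl
      obtain rfl : l = j := by omega
      rcases l with _ | l
      · show Epi (S.g ≫ ι)
        haveI := he0 rfl
        infer_instance
      · exact he l rfl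
    · intro i hi
      rcases i with _ | i
      · exact hP
      · exact hPK i (by omega)

theorem D_of_codim (hiso : ∀ {X Y : A}, (X ≅ Y) → P X → P Y) (n : ℕ) (hn : 1 ≤ n)
    (h3 : ∀ K : CochainComplex A ℕ, (∀ i : ℕ, 1 ≤ i → i ≤ n → K.ExactAt i) →
      (∀ i : ℕ, n < i → IsZero (K.X i)) → Epi (K.d (n - 1) n) → (∀ i : ℕ, i < n → P (K.X i)) →
      P (K.X n)) (X : A) : D P n X := by
  refine D_of_res n X fun Q hQ => ?_
  obtain ⟨K, ι, w, -, -, hexi, hz, -, he, hPK, ⟨e⟩⟩ := exists_complex n X Q hQ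
  obtain ⟨l, rfl⟩ : ∃ l, n = l + 1 := ⟨n - 1, by omega⟩
  exact hiso e (h3 K hexi hz (he l rfl) hPK)

/-! ### Embedding a complex -/

variable (hP : ∀ X : A, ∃ (Y : A) (i : X ⟶ Y), P Y ∧ Mono i)

include hP in
theorem exists_mono (hadd : ∀ {X Y : A}, P X → P Y → P (X ⊞ Y)) (X : CochainComplex A ℤ) :
    ∃ (T : CochainComplex A ℤ) (ι : X ⟶ T), Mono ι ∧ ∀ k, P (T.X k) := by
  choose Y i hY hi using fun k : ℤ => hP (X.X k)
  let T : CochainComplex A ℤ := CochainComplex.of (fun k => Y k ⊞ Y (k + 1))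
    (fun k => biprod.snd ≫ biprod.inl) (fun k => by simp)
  let f : ∀ k, X.X k ⟶ Y k ⊞ Y (k + 1) := fun k => biprod.lift (i k) (X.d k (k + 1) ≫ i (k + 1))
  have hf : ∀ k, f k ≫ (biprod.snd ≫ biprod.inl : Y k ⊞ Y (k + 1) ⟶ Y (k + 1) ⊞ Y (k + 1 + 1)) =
      X.d k (k + 1) ≫ f (k + 1) := by
    intro k
    apply biprod.hom_ext <;> simp [f]
  let ι : X ⟶ T :=
    { f := f
      comm' := fun a b hab => by
        obtain rfl : a + 1 = b := hab
        have e : T.d a (a + 1) = (biprod.snd ≫ biprod.inl : Y a ⊞ Y (a + 1) ⟶ Y (a + 1) ⊞ Y (a + 1 + 1)) := by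
          simp [T, CochainComplex.of, CochainComplex.of.d]
        rw [e]
        exact hf a }
  haveI : ∀ k, Mono (ι.f k) := fun k => by
    haveI := hi k
    haveI : Mono (f k ≫ biprod.fst) := by
      simp only [f, biprod.lift_fst]
      infer_instance
    exact mono_of_mono (f k) biprod.fst
  exact ⟨T, ι, HomologicalComplex.mono_of_mono_f ι (fun k => inferInstance), fun k => hadd (hY k) (hY (k + 1))⟩

/-! ### The cocone -/

attribute [local instance] HasDerivedCategory.standard

theorem acyclic_mappingCocone {K L : CochainComplex A ℤ} (g : K ⟶ L) [QuasiIso g] :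
    (CochainComplex.mappingCocone g).Acyclic := by
  intro q
  rw [exactAt_iff_isZero_homology]
  have ht := DerivedCategory.mappingCocone_triangle_distinguished g
  have h0 : IsZero (DerivedCategory.Q.obj (CochainComplex.mappingCocone g)) := by
    haveI : IsIso (DerivedCategory.Q.mapTriangle.obj (CochainComplex.mappingCocone.triangle g)).mor₂ :=
      (inferInstance : IsIso (DerivedCategory.Q.map g))
    exact Pretriangulated.Triangle.isZero₁_of_isIso₂ _ ht inferInstance
  exact IsZero.of_iso ((DerivedCategory.homologyFunctor A q).map_isZero h0)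
    ((DerivedCategory.homologyFunctorFactors A q).app _).symm

theorem quasiIso_f_of_acyclic {S : ShortComplex (CochainComplex A ℤ)} (hS : S.ShortExact)
    (h : S.X₃.Acyclic) : QuasiIso S.f := by
  refine ⟨fun i => ?_⟩
  rw [quasiIsoAt_iff_isIso_homologyMap]
  haveI : Mono (homologyMap S.f i) :=
    (hS.homology_exact₁ (i - 1) i (by simp)).mono_g ((h (i - 1)).isZero_homology.eq_of_src _ _)
  haveI : Epi (homologyMap S.f i) :=
    (hS.homology_exact₂ i).epi_f ((h i).isZero_homology.eq_of_tgt _ _)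
  exact isIso_of_mono_of_epi _

open CochainComplex HomComplex

theorem δ_snd {K L : CochainComplex A ℤ} (φ : K ⟶ L) :
    δ (-1) 0 (mappingCocone.snd φ) + Cochain.ofHom (mappingCocone.fst φ ≫ φ) = 0 := by
  have h1 : Cochain.ofHom (𝟙 (mappingCocone φ)) =
      mappingCocone.liftCochain φ (Cochain.ofHom (mappingCocone.fst φ)) (mappingCocone.snd φ)
        (by omega) := by
    ext p
    rw [Cochain.ofHom_v, HomologicalComplex.id_f, ← cancel_mono (𝟙 ((mappingCocone φ).X p)),
      ← mappingCocone.id_X φ p (p - 1) (by omega)]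
    simp
  have h2 := congrArg (δ 0 1) h1
  rw [δ_ofHom, mappingCocone.δ_liftCochain φ _ _ _ 1 (by omega), δ_ofHom, Cochain.zero_comp,
    zero_sub, eq_comm, neg_eq_zero, ← Cochain.ofHom_comp] at h2
  ext p
  have h3 := Cochain.congr_v h2 p (p + 1) rfl
  rw [Cochain.comp_v _ _ _ p p (p + 1) (add_zero p) rfl, Cochain.zero_v] at h3
  rw [Cochain.zero_v, ← cancel_mono (𝟙 (L.X p)),
    ← mappingCocone.inr_v_snd_v φ p (p + 1) rfl, reassoc_of% h3, zero_comp, zero_comp]

theorem exists_cocone (hP0 : ∀ {X Y Z : A} (f : X ⟶ Y) (g : Y ⟶ Z) (w : f ≫ g = 0),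
      (ShortComplex.mk f g w).ShortExact → P X → P Z → P Y)
    (S : ShortComplex (CochainComplex A ℤ)) (hS : S.ShortExact) (h2 : ∀ k, P (S.X₂.X k))
    {J : CochainComplex A ℤ} (g : S.X₃ ⟶ J) [QuasiIso g] (hJ : ∀ k, P (J.X k)) :
    ∃ (I : CochainComplex A ℤ) (f : S.X₁ ⟶ I), QuasiIso f ∧ ∀ k, P (I.X k) := by
  let φ := S.g ≫ g
  let f : S.X₁ ⟶ mappingCocone φ := mappingCocone.lift φ S.f 0 (by
    simp only [φ, HomComplex.δ_zero, zero_add]
    rw [S.zero_assoc, zero_comp, Cochain.ofHom_zero])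
  let π : mappingCocone φ ⟶ mappingCocone g := mappingCocone.lift g (mappingCocone.fst φ ≫ S.g)
    (mappingCocone.snd φ) (by
      rw [Category.assoc]
      exact δ_snd φ)
  have w : f ≫ π = 0 := by
    ext k
    rw [HomologicalComplex.comp_f, HomologicalComplex.zero_f,
      ← cancel_mono (𝟙 ((mappingCocone g).X k)), ← mappingCocone.id_X g k (k - 1) (by omega)]
    simp [f, π, mappingCocone.lift_f_fst_f_assoc, mappingCocone.lift_f_snd_v_assoc]
    rw [← HomologicalComplex.comp_f_assoc, S.zero, HomologicalComplex.zero_f, zero_comp]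
  have hSE : (ShortComplex.mk f π w).ShortExact := by
    refine HomologicalComplex.shortExact_of_degreewise_shortExact _ fun k => ?_
    have hk := hS.map_of_exact (HomologicalComplex.eval A (ComplexShape.up ℤ) k)
    haveI : Mono (S.f.f k) := hk.mono_f
    haveI : Epi (S.g.f k) := hk.epi_g
    haveI : Mono (f.f k) := mono_of_mono_fac (mappingCocone.lift_f_fst_f φ S.f 0 _ k)
    refine ShortComplex.ShortExact.mk' ?_ (inferInstanceAs (Mono (f.f k))) ?_
    · rw [ShortComplex.exact_iff_exact_up_to_refinements]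
      intro W (x : W ⟶ (mappingCocone φ).X k) (hx : x ≫ π.f k = 0)
      have h1 : (x ≫ (mappingCocone.fst φ).f k) ≫ S.g.f k = 0 := by
        have := congrArg (fun t => t ≫ (mappingCocone.fst g).f k) hx
        simpa [π] using this
      have h2' : x ≫ (mappingCocone.snd φ).v k (k - 1) (by omega) = 0 := by
        have := congrArg (fun t => t ≫ (mappingCocone.snd g).v k (k - 1) (by omega)) hx
        simpa [π] using this
      obtain ⟨W', q, hq, y, hy⟩ := (hk.exact).exact_up_to_refinements _ h1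
      refine ⟨W', q, hq, y, ?_⟩
      change q ≫ x = y ≫ f.f k
      rw [← Category.comp_id (q ≫ x), ← Category.comp_id (y ≫ f.f k),
        ← mappingCocone.id_X φ k (k - 1) (by omega)]
      simp only [Preadditive.comp_add, Category.assoc]
      rw [reassoc_of% h2']
      change q ≫ x ≫ (mappingCocone.fst φ).f k = y ≫ S.f.f k at hy
      simp [f, reassoc_of% hy]
    · rw [epi_iff_surjective_up_to_refinements]
      intro W (x : W ⟶ (mappingCocone g).X k)
      obtain ⟨W', q, hq, a, ha⟩ :=
        surjective_up_to_refinements_of_epi (S.g.f k) (x ≫ (mappingCocone.fst g).f k)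
      refine ⟨W', q, hq, a ≫ (mappingCocone.inl φ).v k k (add_zero k) +
        (q ≫ x ≫ (mappingCocone.snd g).v k (k - 1) (by omega)) ≫
          (mappingCocone.inr φ).1.v (k - 1) k (by omega), ?_⟩
      change q ≫ x = _ ≫ π.f k
      rw [← Category.comp_id (q ≫ x), ← Category.comp_id (_ ≫ π.f k),
        ← mappingCocone.id_X g k (k - 1) (by omega)]
      simp [π, reassoc_of% ha, Preadditive.add_comp, Preadditive.comp_add]
  refine ⟨_, f, quasiIso_f_of_acyclic hSE (acyclic_mappingCocone g), fun k => ?_⟩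
  have wk : (mappingCocone.inr φ).1.v (k - 1) k (by omega) ≫ (mappingCocone.fst φ).f k = 0 := by simp
  refine hP0 _ _ wk ?_ (hJ (k - 1)) (h2 k)
  exact (ShortComplex.Splitting.mk (S := ShortComplex.mk _ _ wk)
    ((mappingCocone.snd φ).v k (k - 1) (by omega)) ((mappingCocone.inl φ).v k k (add_zero k))
    (by simp) (by simp) ((add_comm _ _).trans (mappingCocone.id_X φ k (k - 1) (by omega)))).shortExact

end Groth.Agent.PClassRes
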